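import Cfsg.Agent.Lib.LocalEven.InversionControl.Climb
import Cfsg.Agent.Lib.Fusion.SL2Sections
import Cfsg.Agent.Lib.Fusion.Quotient
import Cfsg.Agent.Lib.LocalEvenB.ZJClosedStatements
import Cfsg.Agent.Lib.FusionSystem.ZJCriterion
import Cfsg.Agent.S2758

/-!
For odd `p`: if no nontrivial `p`-element is inverted by a 2-element inside the normalizers of `Z(J(T))` for the
Sylow `p`-subgroups `T`, then none is in the whole group.
-/

set_option autoImplicit false
set_option linter.style.haveILetI false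
set_option linter.unusedSectionVars false

namespace CfsgLib.LocalEven.InversionControl

open Cfsg CfsgLib.LocalEven.SylowIn CfsgLib.Solvable

universe u

/-- No nontrivial `p`-element of `H` is inverted by a 2-element of `H`. -/
def GoodIn (p : ℕ) {G : Type*} [Group G] (H : Subgroup G) : Prop :=
  ∀ s ∈ H, ∀ x ∈ H, (∃ k : ℕ, orderOf s = 2 ^ k) → (∃ k : ℕ, orderOf x = p ^ k) → s * x * s⁻¹ = x⁻¹ → x = 1

/-- The hypothesis on the normalizers of `Z(J(T))`. -/
def LocalGood (p : ℕ) (G : Type*) [Group G] : Prop :=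
  ∀ T : Sylow p G, GoodIn p (Subgroup.normalizer (Cfsg.centerThompsonAOf (T : Subgroup G) : Set G))

theorem GoodIn.mono {p : ℕ} {G : Type*} [Group G] {H K : Subgroup G} (h : GoodIn p H) (hK : K ≤ H) :
    GoodIn p K := fun s hs x hx => h s (hK hs) x (hK hx)

theorem GoodIn.comap_subtype {p : ℕ} {G : Type*} [Group G] {H : Subgroup G} {K : Subgroup G}
    (h : GoodIn p K) {L : Subgroup H} (hL : L.map H.subtype ≤ K) : GoodIn p L := by
  rintro s hs x hx ⟨i, hi⟩ ⟨j, hj⟩ he
  refine H.subtype_injective ((h (s : G) (hL (Subgroup.mem_map_of_mem _ hs)) (x : G)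
    (hL (Subgroup.mem_map_of_mem _ hx)) ⟨i, by rw [Subgroup.orderOf_coe, hi]⟩
    ⟨j, by rw [Subgroup.orderOf_coe, hj]⟩ (congrArg Subtype.val he)).trans (map_one H.subtype).symm)

theorem GoodIn.of_top_subgroup {p : ℕ} {G : Type*} [Group G] {H : Subgroup G}
    (h : GoodIn p (⊤ : Subgroup H)) : GoodIn p H := by
  rintro s hs x hx ⟨i, hi⟩ ⟨j, hj⟩ he
  exact congrArg Subtype.val (h ⟨s, hs⟩ trivial ⟨x, hx⟩ trivial ⟨i, by rw [Subgroup.orderOf_mk, hi]⟩
    ⟨j, by rw [Subgroup.orderOf_mk, hj]⟩ (Subtype.ext he))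

variable {p : ℕ} [Fact p.Prime]

theorem GoodIn.map_top (hp : p ≠ 2) {G : Type*} [Group G] [Finite G] {G' : Type*} [Group G'] [Finite G']
    (f : G →* G') (hf : Function.Surjective f) (h : GoodIn p (⊤ : Subgroup G)) :
    GoodIn p (⊤ : Subgroup G') := by
  intro s _ x _ hs hx he
  by_contra hx1
  obtain ⟨K, g, hg⟩ := InvolvesDihedral.exists_surjective
    ((Cfsg.Agent.S2758.result (G := G') hp).2.2 ⟨s, x, hs, hx, hx1, he⟩)
  have hD : Cfsg.Involves (DihedralGroup p) G := InvolvesDihedral.of_surjective (g.comp (f.subgroupComap K))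
    (hg.comp fun ⟨y, hy⟩ => by
      obtain ⟨z, rfl⟩ := hf y
      exact ⟨⟨z, hy⟩, rfl⟩)
  obtain ⟨a, b, ha, hb, hb1, hab⟩ := (Cfsg.Agent.S2758.result (G := G) hp).2.1 hD
  exact hb1 (h a trivial b trivial ha hb hab)

theorem GoodIn.map (hp : p ≠ 2) {G : Type*} [Group G] [Finite G] {G' : Type*} [Group G'] [Finite G']
    (f : G →* G') {H : Subgroup G} (h : GoodIn p H) : GoodIn p (H.map f) :=
  GoodIn.of_top_subgroup (GoodIn.map_top hp (f.subgroupMap H) (f.subgroupMap_surjective H)
    (GoodIn.comap_subtype h (Subgroup.map_subtype_le _)))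

/-- A 2-element of a good subgroup centralizes every `p`-subgroup of it which it normalizes. -/
theorem GoodIn.mem_centralizer (hp : p ≠ 2) {G : Type*} [Group G] [Finite G] {H P : Subgroup G}
    (h : GoodIn p H) (hP : IsPGroup p P) (hPH : P ≤ H) {s : G} (hs : s ∈ H) (hs2 : ∃ k : ℕ, orderOf s = 2 ^ k)
    (hn : s ∈ Subgroup.normalizer (P : Set G)) : s ∈ Subgroup.centralizer (P : Set G) := by
  by_contra hc
  obtain ⟨k, hk⟩ := hs2
  obtain ⟨z, y, hz, hy, hy1, he⟩ :=
    Cfsg.Agent.S2758.exists_inverted_of_normalizes hp hP k (hk ▸ pow_orderOf_eq_one s) hn hc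
  obtain ⟨j, -, hj⟩ := (Nat.dvd_prime_pow Nat.prime_two).1
    (hk ▸ orderOf_dvd_of_mem_zpowers hz : orderOf z ∣ 2 ^ k)
  obtain ⟨i, hi⟩ := IsPGroup.iff_orderOf.1 hP ⟨y, hy⟩
  exact hy1 (h z (Subgroup.zpowers_le.2 hs hz) y (hPH hy) ⟨j, hj⟩ ⟨i, by rwa [Subgroup.orderOf_mk] at hi⟩ he)

variable {G : Type u} [Group G] [Finite G]

/-- A subgroup containing a Sylow subgroup inherits the hypothesis. -/
theorem LocalGood.subgroup {H : Subgroup G} (h : LocalGood p G)
    (hH : ∀ T : Sylow p H, ∃ S : Sylow p G, (S : Subgroup G) = (T : Subgroup H).map H.subtype) :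
    LocalGood p H := by
  intro T
  obtain ⟨S, hS⟩ := hH T
  refine GoodIn.comap_subtype (h S) ?_
  rw [hS, CfsgLib.Fsys.centerThompsonAOf_map H.subtype H.subtype_injective]
  exact Subgroup.le_normalizer_map _

theorem exists_sylow_eq {H : Subgroup G} {S : Sylow p G} (hSH : (S : Subgroup G) ≤ H) (T : Sylow p H) :
    ∃ S' : Sylow p G, (S' : Subgroup G) = (T : Subgroup H).map H.subtype := by
  have hS : IsSylowIn p (S : Subgroup G) H := ⟨hSH, S.2, fun U _ hU hSU => S.3 hU hSU⟩
  obtain ⟨h, -, he⟩ := hS.conjugate (IsSylowIn.of_map_subtype T)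
  exact ⟨h • S, by rw [he, Sylow.coe_subgroup_smul]; rfl⟩

theorem centerThompsonAOf_eq_Z_card {U : Subgroup G} (m : ℕ) (hm : Nat.card U ∣ m) :
    Cfsg.centerThompsonAOf U = CfsgLib.Fusion.ZJGeneral.Z m U :=
  CfsgLib.Fusion.ZJBridge.centerThompsonAOf_eq_Z fun x hx => by
    obtain ⟨c, rfl⟩ := hm
    rw [pow_mul, show x ^ Nat.card U = 1 from congrArg Subtype.val (pow_card_eq_one' (x := (⟨x, hx⟩ : U))), one_pow]

theorem normalizer_le_normalizer_centerThompsonAOf (U : Subgroup G) :
    Subgroup.normalizer (U : Set G) ≤ Subgroup.normalizer (Cfsg.centerThompsonAOf U : Set G) := by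
  rw [centerThompsonAOf_eq_Z_card (U := U) _ dvd_rfl]
  exact CfsgLib.Fusion.ZJGeneral.normalizer_le_normalizer_Z U

/-- Groups without normal `p`-subgroup: all `p`-local subgroups are good. -/
theorem goodIn_normalizer (hcond : LocalGood p G)
    (hind : ∀ H : Subgroup G, H ≠ ⊤ → LocalGood p H → GoodIn p H) (hcore : Cfsg.pCore p G = ⊥)
    (F : Subgroup G) (hF : IsPGroup p F) (hF1 : F ≠ ⊥) :
    GoodIn p (Subgroup.normalizer (F : Set G)) := by
  by_contra hbad
  let S : Set (Subgroup G) := {P | ∃ F : Subgroup G, IsPGroup p F ∧ F ≠ ⊥ ∧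
    IsSylowIn p P (Subgroup.normalizer (F : Set G)) ∧ ¬ GoodIn p (Subgroup.normalizer (F : Set G))}
  have hS : S.Nonempty := by
    obtain ⟨P, hP, -⟩ := exists_isSylowIn _ (Subgroup.le_normalizer : F ≤ _) hF
    exact ⟨P, F, hF, hF1, hP, hbad⟩
  obtain ⟨P, ⟨F', hF', hF'1, hP, hbad'⟩, hmax⟩ :=
    Set.exists_max_image S (fun U => Nat.card U) (Set.toFinite _) hS
  set N := Subgroup.normalizer (F' : Set G) with hN
  have hne : N ≠ ⊤ := fun htop => hF'1 (le_bot_iff.1 (hcore ▸
    @Cores.le_pCore G _ p F' (Subgroup.normalizer_eq_top_iff.1 htop) hF'))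
  refine hbad' (hind N hne fun T => ?_)
  set Q := (T : Subgroup N).map N.subtype with hQdef
  have hQ : IsSylowIn p Q N := IsSylowIn.of_map_subtype T
  have hQcard : Nat.card Q = Nat.card P := by
    obtain ⟨h, -, he⟩ := hP.conjugate hQ
    rw [he, Subgroup.card_map_of_injective (MulAut.conj h).injective]
  have hQ1 : Q ≠ ⊥ := fun e => hF'1 (by
    have := hQ.2.2 (F' ⊔ Q) (sup_le Subgroup.le_normalizer hQ.1) (by rw [e, sup_bot_eq]; exact hF') le_sup_right
    rw [e, sup_bot_eq] at this
    exact this)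
  refine GoodIn.comap_subtype (K := Subgroup.normalizer (Cfsg.centerThompsonAOf Q : Set G)) ?_ ?_
  swap
  · rw [hQdef, CfsgLib.Fsys.centerThompsonAOf_map N.subtype N.subtype_injective]
    exact Subgroup.le_normalizer_map _
  obtain ⟨R, hR⟩ := hQ.2.1.exists_le_sylow
  by_cases hRQ : (R : Subgroup G) = Q
  · exact hRQ ▸ hcond R
  · by_contra hb
    set E := Cfsg.centerThompsonAOf Q
    have hEQ : E ≤ Q := CfsgLib.Fsys.centerThompsonAOf_le Q
    have hlt : Q < Subgroup.normalizer (Q : Set G) ⊓ R := by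
      haveI := R.2.isNilpotent
      have h1 := Group.normalizerCondition_of_isNilpotent (Q.subgroupOf (R : Subgroup G))
        (lt_top_iff_ne_top.2 fun e => hRQ (le_antisymm (Subgroup.subgroupOf_eq_top.1 e) hR))
      refine lt_of_le_of_ne (le_inf Subgroup.le_normalizer hR) fun e => ?_
      obtain ⟨⟨g, hgR⟩, hg, hgQ⟩ := SetLike.exists_of_lt h1
      apply hgQ
      rw [Subgroup.mem_subgroupOf]
      rw [e]
      refine ⟨Subgroup.mem_normalizer_fintype fun n hn => ?_, hgR⟩
      exact (Subgroup.mem_normalizer_iff.1 hg ⟨n, hR hn⟩).1 hn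
    obtain ⟨P', hP', hle⟩ := exists_isSylowIn (Subgroup.normalizer (E : Set G))
      (inf_le_left.trans (normalizer_le_normalizer_centerThompsonAOf Q)) (R.2.to_le inf_le_right)
    have h1 := hmax P' ⟨E, hQ.2.1.to_le hEQ, CfsgLib.Fsys.centerThompsonAOf_ne_bot hQ.2.1 hQ1, hP', hb⟩
    exact Nat.lt_irrefl _ ((hQcard ▸ (Set.Finite.card_lt_card (Set.toFinite _)
      (lt_of_lt_of_le hlt hle))).trans_le h1)

/-- The reduction modulo a normal `p'`-subgroup. -/
theorem LocalGood.quotient (hp : p ≠ 2) (hcond : LocalGood p G) (N : Subgroup G) [N.Normal]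
    (hN : (Nat.card N).Coprime p) : LocalGood p (G ⧸ N) := by
  intro T'
  obtain ⟨T, rfl⟩ := Sylow.mapSurjective_surjective (QuotientGroup.mk'_surjective N) p T'
  rw [Sylow.coe_mapSurjective, centerThompsonAOf_eq_Z_card (Nat.card (T : Subgroup G))
    (Subgroup.card_map_dvd _ _), CfsgLib.Fusion.ZJConstrained.Z_map_quotient hN T.2,
    CfsgLib.Fusion.Quotient.normalizer_map hN (T.2.to_le (CfsgLib.Fusion.ZJGeneral.Z_le _)),
    ← centerThompsonAOf_eq_Z_card (Nat.card (T : Subgroup G)) dvd_rfl]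
  exact GoodIn.map hp _ (hcond T)

/-- A constrained group whose proper subgroups containing a Sylow subgroup have odd order. -/
theorem normal_centerThompsonAOf (hp : p ≠ 2) (hc : Subgroup.centralizer (Cfsg.pCore p G : Set G) ≤ Cfsg.pCore p G)
    (hodd : ∀ H : Subgroup G, H ≠ ⊤ → ∀ S : Sylow p G, (S : Subgroup G) ≤ H → Odd (Nat.card H))
    (T : Sylow p G) : (Cfsg.centerThompsonAOf (T : Subgroup G)).Normal := by
  have hst : ∀ (P : Subgroup G) [P.Normal], IsPGroup p P → Cfsg.IsPStableOn p P := by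
    intro P _ hP
    refine CfsgLib.Fusion.SL2Sections.isPStableOn_of_frattini P hP fun V _ hV =>
      CfsgLib.Fusion.QuadStable.isPStableOn_of_quadInCore V hV (quadInCore_of_odd_overgroups hp fun K hK S hSK => ?_)
    let f : G →* (G ⧸ (frattini ↥P).map P.subtype) ⧸ Subgroup.centralizer (V : Set _) :=
      (QuotientGroup.mk' _).comp (QuotientGroup.mk' _)
    have hf : Function.Surjective f :=
      (QuotientGroup.mk'_surjective _).comp (QuotientGroup.mk'_surjective _)
    obtain ⟨S₀, hS₀⟩ := Sylow.mapSurjective_surjective hf p S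
    have hle : (S₀ : Subgroup G) ≤ K.comap f := fun x hx => hSK (by
      rw [← hS₀, Sylow.coe_mapSurjective]
      exact Subgroup.mem_map_of_mem f hx)
    have h1 := hodd (K.comap f) (fun e => hK (by
      rw [← Subgroup.map_comap_eq_self_of_surjective hf K, e, Subgroup.map_top_of_surjective f hf])) S₀ hle
    refine h1.of_dvd_nat ?_
    conv_lhs => rw [← Subgroup.map_comap_eq_self_of_surjective hf K]
    exact Subgroup.card_map_dvd _ _
  rw [CfsgLib.LocalEvenB.ZJClosedStatements.centerThompsonAOf_eq T le_rfl]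
  refine CfsgLib.LocalEvenB.ZJClosed.Z_normal hp (CfsgLib.LocalEvenB.ZJClosedStatements.odd_expo hp T) hc hst T ?_
  exact ⟨le_rfl, fun t _ g h => h⟩

/-- Inversion of `p`-elements by 2-elements is controlled by the normalizers of `Z(J(T))`. -/
theorem goodIn_top (hp : p ≠ 2) (hcond : LocalGood p G) : GoodIn p (⊤ : Subgroup G) := by
  have hpp : p.Prime := Fact.out
  suffices h : ∀ n : ℕ, ∀ (G : Type u) [Group G] [Finite G], Nat.card G = n → LocalGood p G →
      GoodIn p (⊤ : Subgroup G) from h _ G rfl hcond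
  clear hcond
  intro n
  induction n using Nat.strong_induction_on with
  | _ n ih =>
    intro G _ _ hn hcond
    have hind : ∀ H : Subgroup G, H ≠ ⊤ → LocalGood p H → GoodIn p H := fun H hH hHc =>
      GoodIn.of_top_subgroup (ih _ (hn ▸ lt_of_le_of_ne (Subgroup.card_le_card_group H)
        fun e => hH (Subgroup.eq_top_of_card_eq H e)) H rfl hHc)
    have hover : ∀ H : Subgroup G, H ≠ ⊤ → ∀ S : Sylow p G, (S : Subgroup G) ≤ H → GoodIn p H :=
      fun H hH S hSH => hind H hH (hcond.subgroup fun T => exists_sylow_eq hSH T)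
    have hquot : ∀ (N : Subgroup G) [N.Normal], N ≠ ⊥ → LocalGood p (G ⧸ N) → ∀ s x : G,
        (∃ k : ℕ, orderOf s = 2 ^ k) → (∃ k : ℕ, orderOf x = p ^ k) → s * x * s⁻¹ = x⁻¹ → x ∈ N := by
      rintro N _ hN hc s x ⟨i, hi⟩ ⟨j, hj⟩ he
      have hlt : Nat.card (G ⧸ N) < n := by
        have h1 := Subgroup.card_eq_card_quotient_mul_card_subgroup N
        have h2 : 1 < Nat.card N := N.one_lt_card_iff_ne_bot.2 hN
        have h3 : 0 < Nat.card (G ⧸ N) := Nat.card_pos
        rw [← hn, h1]
        exact lt_mul_of_one_lt_right h3 h2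
      obtain ⟨i', -, hi'⟩ := (Nat.dvd_prime_pow Nat.prime_two).1
        (hi ▸ orderOf_map_dvd (QuotientGroup.mk' N) s : _ ∣ 2 ^ i)
      obtain ⟨j', -, hj'⟩ := (Nat.dvd_prime_pow hpp).1
        (hj ▸ orderOf_map_dvd (QuotientGroup.mk' N) x : _ ∣ p ^ j)
      exact (QuotientGroup.eq_one_iff x).1 (ih _ hlt (G ⧸ N) rfl hc _ trivial _ trivial ⟨i', hi'⟩ ⟨j', hj'⟩
        ((congrArg (QuotientGroup.mk' N) he) |> fun e => by rwa [map_mul, map_mul, map_inv, map_inv] at e))
    intro s _ x _ hs hx he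
    by_contra hx1
    by_cases hR : Cfsg.pPrimeCore p G = ⊥
    swap
    · haveI := Cores.pPrimeCore_normal (G := G) p
      have hco := Cores.coprime_card_pPrimeCore (G := G) p
      have h1 := hquot _ hR (hcond.quotient hp _ hco) s x hs hx he
      obtain ⟨j, hj⟩ := hx
      exact hx1 (orderOf_eq_one_iff.1 (Nat.eq_one_of_dvd_coprimes (hco.pow_right j)
        (Subgroup.orderOf_dvd_natCard _ h1) (dvd_of_eq hj)))
    obtain ⟨j, hj⟩ := hx
    set D := Cfsg.pCore p G with hDdef
    haveI hDn : D.Normal := SylowIn.pCore_normal G p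
    by_cases hD : D = ⊥
    · set F := Subgroup.zpowers x
      have hsN : s ∈ Subgroup.normalizer (F : Set G) := Subgroup.mem_normalizer_fintype fun a ha => by
        obtain ⟨e, rfl⟩ := ha
        exact ⟨-e, (CfsgLib.Involution.Dihedral.conj_zpow he e).symm⟩
      exact hx1 (goodIn_normalizer hcond hind hD F (IsPGroup.of_card (n := j) (by rw [Nat.card_zpowers, hj]))
        (Subgroup.zpowers_ne_bot.2 hx1) s hsN x (Subgroup.le_normalizer (Subgroup.mem_zpowers x)) hs ⟨j, hj⟩ he)
    obtain ⟨T⟩ : Nonempty (Sylow p G) := inferInstance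
    have hfin : (Cfsg.centerThompsonAOf (T : Subgroup G)).Normal → False := fun hn' => hx1 (hcond T s
      (by rw [Subgroup.normalizer_eq_top]; trivial) x (by rw [Subgroup.normalizer_eq_top]; trivial) hs ⟨j, hj⟩ he)
    have hDp : IsPGroup p D := SylowIn.isPGroup_pCore G p
    by_cases hc : Subgroup.centralizer (D : Set G) ≤ D
    · refine hfin (normal_centerThompsonAOf hp hc (fun H hH S hSH => ?_) T)
      by_contra he2
      obtain ⟨t, ht⟩ := exists_prime_orderOf_dvd_card' 2 (even_iff_two_dvd.1 (Nat.not_odd_iff_even.1 he2))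
      have ht2 : orderOf (t : G) = 2 := by rw [Subgroup.orderOf_coe, ht]
      have h1 := (hover H hH S hSH).mem_centralizer hp hDp ((Cores.pCore_le_sylow S).trans hSH) t.2
        ⟨1, by rw [ht2, pow_one]⟩ (by rw [Subgroup.normalizer_eq_top]; trivial)
      obtain ⟨e, he'⟩ := IsPGroup.iff_orderOf.1 hDp ⟨_, hc h1⟩
      rw [Subgroup.orderOf_mk, ht2] at he'
      exact hp ((Nat.prime_dvd_prime_iff_eq Nat.prime_two hpp).1
        (Nat.prime_two.dvd_of_dvd_pow (dvd_of_eq he'))).symm
    -- the centralizer of the core has a Sylow subgroup outside the core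
    set C := Subgroup.centralizer (D : Set G) with hC
    haveI : C.Normal := inferInstance
    set P₀ := (T : Subgroup G) ⊓ C with hP₀
    have hP₀p : IsPGroup p P₀ := T.2.to_le inf_le_left
    obtain ⟨T₀, hT₀⟩ : ∃ T₀ : Sylow p C, (T₀ : Subgroup C) = (T : Subgroup G).subgroupOf C := by
      obtain ⟨S, hS⟩ : ∃ S : Sylow p C, True := ⟨Classical.arbitrary _, trivial⟩
      obtain ⟨R, hR'⟩ := (S.2.map C.subtype).exists_le_sylow
      obtain ⟨g, hg⟩ := MulAction.exists_smul_eq G R T
      refine ⟨{ toSubgroup := (T : Subgroup G).subgroupOf C,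
                isPGroup' := T.2.comap_of_injective C.subtype C.subtype_injective,
                is_maximal' := ?_ }, rfl⟩
      intro U hU hTU
      refine (Subgroup.eq_of_le_of_card_ge hTU ?_).symm
      obtain ⟨S', hS'⟩ := hU.exists_le_sylow
      refine (Subgroup.card_le_of_le hS').trans ?_
      rw [Sylow.card_eq_multiplicity S', ← Sylow.card_eq_multiplicity S]
      have h1 : ((S : Subgroup C).map C.subtype).map (MulAut.conj g).toMonoidHom ≤ (T : Subgroup G) ⊓ C := by
        refine le_inf ?_ ?_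
        · rw [← hg, Sylow.coe_subgroup_smul]
          exact Subgroup.map_mono hR'
        · rintro _ ⟨_, ⟨y, -, rfl⟩, rfl⟩
          exact ‹C.Normal›.conj_mem _ y.2 g
      have h2 := Subgroup.card_le_of_le h1
      rw [Subgroup.card_map_of_injective (MulAut.conj g).injective, Subgroup.card_subtype] at h2
      rw [← Subgroup.card_subtype C ((T : Subgroup G).subgroupOf C), Subgroup.subgroupOf_map_subtype]
      exact h2
    have hT₀' : (T₀ : Subgroup C).map C.subtype = P₀ := by rw [hT₀, Subgroup.subgroupOf_map_subtype]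
    by_cases hP₀D : P₀ ≤ D
    · apply hc
      have hcent : Subgroup.normalizer ((T₀ : Subgroup C) : Set C) ≤ Subgroup.centralizer ((T₀ : Subgroup C) : Set C) :=
        fun b _ => Subgroup.mem_centralizer_iff.2 fun a ha =>
          Subtype.ext (Subgroup.mem_centralizer_iff.1 b.2 _ (hP₀D (hT₀' ▸ Subgroup.mem_map_of_mem C.subtype ha)))
      set K := (MonoidHom.transferSylow T₀ hcent).ker with hK
      have hKc : (Nat.card K).Coprime p := ((hpp.coprime_iff_not_dvd).2
        (MonoidHom.not_dvd_card_ker_transferSylow T₀ hcent)).symm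
      have hcompl := MonoidHom.ker_transferSylow_isComplement' T₀ hcent
      have hle : K ≤ Cfsg.pPrimeCore p C := Cores.le_pPrimeCore hKc
      haveI := Cores.pPrimeCore_normal (G := C) p
      haveI : (Cfsg.pPrimeCore p C).Characteristic := by
        refine Subgroup.characteristic_iff_map_le.2 fun φ => ?_
        haveI := Subgroup.Normal.map (inferInstance : (Cfsg.pPrimeCore p C).Normal) φ.toMonoidHom φ.surjective
        exact Cores.le_pPrimeCore (by
          rw [Subgroup.card_map_of_injective φ.injective]; exact Cores.coprime_card_pPrimeCore p)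
      have hbot : Cfsg.pPrimeCore p C = ⊥ := by
        apply Subgroup.map_injective C.subtype_injective
        rw [Subgroup.map_bot, ← le_bot_iff, ← hR]
        exact Cores.le_pPrimeCore (by rw [Subgroup.card_subtype]; exact Cores.coprime_card_pPrimeCore p)
      intro y hy
      rw [hbot, le_bot_iff] at hle
      rw [← hK, hle, Subgroup.isComplement'_bot_left] at hcompl
      exact hP₀D (hT₀' ▸ ⟨⟨y, hy⟩, hcompl ▸ Subgroup.mem_top _, rfl⟩)
    set N₀ := Subgroup.normalizer (P₀ : Set G) with hN₀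
    have hN₀ne : N₀ ≠ ⊤ := fun htop =>
      hP₀D (@Cores.le_pCore G _ p P₀ (Subgroup.normalizer_eq_top_iff.1 htop) hP₀p)
    have hTN₀ : (T : Subgroup G) ≤ N₀ := le_normalizer_of_map_conj fun g hg => by
      rw [hP₀, Subgroup.map_inf _ _ _ (MulAut.conj g).injective, map_conj_eq_iff.2 (Subgroup.le_normalizer hg),
        map_conj_eq_iff.2 (by rw [Subgroup.normalizer_eq_top]; trivial)]
    have hgood := hover N₀ hN₀ne T hTN₀
    have hfr : N₀ ⊔ C = ⊤ := by
      have := Sylow.normalizer_sup_eq_top T₀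
      rwa [hT₀'] at this
    have htwo : ∀ t : G, (∃ k : ℕ, orderOf t = 2 ^ k) → t ∈ C := by
      have hodd : Odd (Nat.card (G ⧸ C)) := by
        by_contra he2
        obtain ⟨c, hc2⟩ := exists_prime_orderOf_dvd_card' 2 (even_iff_two_dvd.1 (Nat.not_odd_iff_even.1 he2))
        obtain ⟨g, rfl⟩ := QuotientGroup.mk'_surjective C c
        have hg : g ∈ N₀ ⊔ C := hfr ▸ Subgroup.mem_top g
        obtain ⟨a, ha, b, hb, rfl⟩ := Subgroup.mem_sup_of_normal_right.1 hg
        rw [map_mul, show QuotientGroup.mk' C b = 1 from (QuotientGroup.eq_one_iff b).2 hb, mul_one] at hc2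
        obtain ⟨m, k, hm, hk, -⟩ := exists_two_part a
        have h1 : a ^ m ∈ C := hgood.mem_centralizer hp hDp ((Cores.pCore_le_sylow T).trans hTN₀) (pow_mem ha m)
          ⟨k, hk⟩ (by rw [Subgroup.normalizer_eq_top]; trivial)
        have h2 : (QuotientGroup.mk' C a) ^ m = 1 := by rw [← map_pow]; exact (QuotientGroup.eq_one_iff _).2 h1
        have h3 := hm.of_dvd_nat (orderOf_dvd_of_pow_eq_one h2)
        rw [hc2] at h3
        exact Nat.not_odd_iff_even.2 even_two h3
      rintro t ⟨k, hk⟩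
      rw [← QuotientGroup.eq_one_iff, ← orderOf_eq_one_iff]
      exact Nat.eq_one_of_dvd_coprimes ((Nat.coprime_two_right.2 hodd).pow_right k) (orderOf_dvd_natCard _)
        (hk ▸ orderOf_map_dvd (QuotientGroup.mk' C) t)
    -- the quotient by the core satisfies the hypothesis
    set π := QuotientGroup.mk' D with hπ
    have hπs := QuotientGroup.mk'_surjective D
    have hq : LocalGood p (G ⧸ D) := by
      intro T'
      obtain ⟨T₁, rfl⟩ := Sylow.mapSurjective_surjective hπs p T'
      rw [Sylow.coe_mapSurjective]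
      set E₁ := Cfsg.centerThompsonAOf ((T₁ : Subgroup G).map π) with hE₁
      have hT₁D : (T₁ : Subgroup G).map π ≠ ⊥ := by
        intro e
        rw [Subgroup.map_eq_bot_iff, QuotientGroup.ker_mk'] at e
        obtain ⟨g, hg⟩ := MulAction.exists_smul_eq G T₁ T
        apply hP₀D
        refine inf_le_left.trans ?_
        rw [← hg, Sylow.coe_subgroup_smul]
        rintro _ ⟨z, hz, rfl⟩
        exact hDn.conj_mem z (e hz) g
      have hE₁ne : E₁ ≠ ⊥ := CfsgLib.Fsys.centerThompsonAOf_ne_bot (T₁.2.map π) hT₁D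
      set E := E₁.comap π with hE
      have hET : E ≤ (T₁ : Subgroup G) := by
        refine (Subgroup.comap_mono (CfsgLib.Fsys.centerThompsonAOf_le _)).trans ?_
        rw [Subgroup.comap_map_eq, QuotientGroup.ker_mk']
        exact sup_le le_rfl (Cores.pCore_le_sylow T₁)
      have hNE : (Subgroup.normalizer (E₁ : Set (G ⧸ D))).comap π = Subgroup.normalizer (E : Set G) :=
        Subgroup.comap_normalizer_eq_of_surjective _ hπs
      have hTE : (T₁ : Subgroup G) ≤ Subgroup.normalizer (E : Set G) := by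
        rw [← hNE, ← Subgroup.map_le_iff_le_comap]
        exact Subgroup.le_normalizer.trans (normalizer_le_normalizer_centerThompsonAOf _)
      have hne : Subgroup.normalizer (E : Set G) ≠ ⊤ := by
        intro htop
        have h1 : E ≤ D := @Cores.le_pCore G _ p E (Subgroup.normalizer_eq_top_iff.1 htop) (T₁.2.to_le hET)
        apply hE₁ne
        rw [← Subgroup.map_comap_eq_self_of_surjective hπs E₁, ← hE, Subgroup.map_eq_bot_iff, QuotientGroup.ker_mk']
        exact h1
      have h1 := GoodIn.map hp π (hover _ hne T₁ hTE)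
      rwa [← hNE, Subgroup.map_comap_eq_self_of_surjective hπs] at h1
    have hxD := hquot D hD hq s x hs ⟨j, hj⟩ he
    have hsx : s * x = x * s := (Subgroup.mem_centralizer_iff.1 (htwo s hs) x hxD).symm
    rw [hsx, mul_inv_cancel_right] at he
    have h2 : orderOf x ∣ 2 := orderOf_dvd_of_pow_eq_one (by rw [pow_two]; exact mul_eq_one_iff_eq_inv.2 he)
    exact hx1 (orderOf_eq_one_iff.1 (Nat.eq_one_of_dvd_coprimes
      (((Nat.coprime_primes hpp Nat.prime_two).2 hp).pow_left j) (hj ▸ dvd_rfl) h2))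

end CfsgLib.LocalEven.InversionControl
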