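import Cfsg.Agent.Lib.LocalEven.InversionControl.QuadPair
import Mathlib.GroupTheory.Nilpotent

/-!
If every proper subgroup containing a Sylow `p`-subgroup has odd order, then quadratic elements of a faithful
module in characteristic `p` lie in `O_p`.
-/

set_option autoImplicit false
set_option linter.unusedSectionVars false

namespace CfsgLib.LocalEven.InversionControl

open CfsgLib.Fusion.QuadStable CfsgLib.LocalEven.SylowIn CfsgLib.Solvable

universe v w

variable {G : Type*} [Group G]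

/-- The subgroup generated by the elements of `T` with a property. -/
def gen (Q : G → Prop) (T : Subgroup G) : Subgroup G := Subgroup.closure {x | Q x ∧ x ∈ T}

theorem gen_le (Q : G → Prop) (T : Subgroup G) : gen Q T ≤ T := (Subgroup.closure_le _).2 fun _ h => h.2

theorem mem_gen {Q : G → Prop} {T : Subgroup G} {x : G} (h : Q x) (hx : x ∈ T) : x ∈ gen Q T :=
  Subgroup.subset_closure ⟨h, hx⟩

theorem gen_mono (Q : G → Prop) {S T : Subgroup G} (h : S ≤ T) : gen Q S ≤ gen Q T :=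
  Subgroup.closure_mono fun _ hx => ⟨hx.1, h hx.2⟩

theorem gen_gen (Q : G → Prop) (T : Subgroup G) : gen Q (gen Q T) = gen Q T :=
  le_antisymm (gen_le _ _) ((Subgroup.closure_le _).2 fun _ hx => mem_gen hx.1 (mem_gen hx.1 hx.2))

theorem normalizer_le_gen [Finite G] {Q : G → Prop} (hQ : ∀ g x, Q x → Q (g * x * g⁻¹)) (T : Subgroup G) :
    Subgroup.normalizer (T : Set G) ≤ Subgroup.normalizer (gen Q T : Set G) := by
  intro g hg
  refine Subgroup.mem_normalizer_fintype fun n hn => ?_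
  have h : gen Q T ≤ (gen Q T).comap (MulAut.conj g).toMonoidHom := (Subgroup.closure_le _).2 fun x hx =>
    mem_gen (hQ g x hx.1) ((Subgroup.mem_normalizer_iff.1 hg x).1 hx.2)
  exact h hn

theorem exists_mem_normalizer [Finite G] {p : ℕ} [Fact p.Prime] {Q : G → Prop}
    (hQ : ∀ g x, Q x → Q (g * x * g⁻¹)) {U T : Subgroup G} (hT : IsPGroup p T) (hUT : U ≤ T)
    (hU : gen Q U = U) (hex : ∃ x ∈ T, Q x ∧ x ∉ U) :
    ∃ a ∈ T, Q a ∧ a ∉ U ∧ a ∈ Subgroup.normalizer (U : Set G) := by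
  by_contra hall
  push Not at hall
  set M := T ⊓ Subgroup.normalizer (U : Set G) with hM
  have hUM : U ≤ M := le_inf hUT Subgroup.le_normalizer
  haveI := hT.isNilpotent
  have hMT : M.subgroupOf T = ⊤ := by
    by_contra hne
    obtain ⟨⟨g, hgT⟩, hg, hgM⟩ := SetLike.exists_of_lt
      (Group.normalizerCondition_of_isNilpotent (M.subgroupOf T) (lt_top_iff_ne_top.2 hne))
    refine hgM (Subgroup.mem_subgroupOf.2 ⟨hgT, Subgroup.mem_normalizer_fintype fun n hn => ?_⟩)
    have h : gen Q U ≤ U.comap (MulAut.conj g).toMonoidHom := (Subgroup.closure_le _).2 fun x hx => by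
      have hxM : g * x * g⁻¹ ∈ M := (Subgroup.mem_normalizer_iff.1 hg ⟨x, hUT hx.2⟩).1 (hUM hx.2)
      exact by_contra fun hxU => hall _ hxM.1 (hQ g x hx.1) hxU hxM.2
    rw [hU] at h
    exact h hn
  obtain ⟨x, hxT, hx, hxU⟩ := hex
  exact hall x hxT hx hxU (Subgroup.subgroupOf_eq_top.1 hMT hxT).2

theorem isQuad_conj {H : Type w} [Group H] {W : Type v} [AddCommGroup W] (ρ : H →* (AddMonoid.End W)ˣ)
    (g a : H) (ha : IsQuad ρ a) : IsQuad ρ (g * a * g⁻¹) := by
  intro u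
  have hρb : ∀ z, (ρ (g * a * g⁻¹) : AddMonoid.End W) z =
      (ρ g : AddMonoid.End W) ((ρ a : AddMonoid.End W) ((ρ g⁻¹ : AddMonoid.End W) z)) := fun z => by
    rw [map_mul, map_mul]; rfl
  have hgg : ∀ z, (ρ g⁻¹ : AddMonoid.End W) ((ρ g : AddMonoid.End W) z) = z := fun z => by
    rw [map_inv]; exact DFunLike.congr_fun (Units.inv_mul (ρ g)) z
  have hgg' : ∀ z, (ρ g : AddMonoid.End W) ((ρ g⁻¹ : AddMonoid.End W) z) = z := fun z => by
    rw [map_inv]; exact DFunLike.congr_fun (Units.mul_inv (ρ g)) z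
  set w := (ρ g⁻¹ : AddMonoid.End W) u with hw
  have e : (ρ (g * a * g⁻¹) : AddMonoid.End W) u - u =
      (ρ g : AddMonoid.End W) ((ρ a : AddMonoid.End W) w - w) := by
    rw [hρb u, map_sub, hw, hgg']
  rw [e, hρb, hgg, ha w]

theorem quadInCore_of_odd_overgroups {H : Type v} [Group H] [Finite H] {p : ℕ} [Fact p.Prime] (hp : p ≠ 2)
    (hodd : ∀ K : Subgroup H, K ≠ ⊤ → ∀ T : Sylow p H, (T : Subgroup H) ≤ K → Odd (Nat.card K)) :
    QuadInCore p H := by
  intro W _ _ hW ρ hρ a ha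
  by_contra hna
  have hpp : p.Prime := Fact.out
  let Q : H → Prop := IsQuad ρ
  have hQ : ∀ g x, Q x → Q (g * x * g⁻¹) := fun g x => isQuad_conj ρ g x
  let S : Set (Subgroup H) := {U | IsPGroup p U ∧ gen Q U = U ∧
    ∃ s ∈ Subgroup.normalizer (U : Set H), s ≠ 1 ∧ ∃ k, orderOf s = 2 ^ k}
  -- a pair inside a subgroup gives a 2-element normalizing a `p`-subgroup
  have hpair : ∀ (K : Subgroup H) (x : H) (hx : x ∈ K), Q x → (⟨x, hx⟩ : K) ∉ Cfsg.pCore p K →
      ∀ U : Subgroup H, IsPGroup p U → ∃ (a' s : H) (P : Subgroup H), Q a' ∧ a' ∉ U ∧ a' ∈ P ∧ P ≤ K ∧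
        IsPGroup p P ∧ s ∈ K ∧ s ≠ 1 ∧ (∃ k, orderOf s = 2 ^ k) ∧ s ∈ Subgroup.normalizer (P : Set H) := by
    intro K x hx hQx hxK U hU
    obtain ⟨L, a', b', hgen, hqa, hqb, hnp⟩ :=
      exists_pair hW (ρ.comp K.subtype) (hρ.comp K.subtype_injective) (a := ⟨x, hx⟩) hQx hxK
    have key : ∀ c d : L, Subgroup.closure ({c, d} : Set L) = ⊤ → IsQuad ((ρ.comp K.subtype).comp L.subtype) c →
        IsQuad ((ρ.comp K.subtype).comp L.subtype) d → ((c : K) : H) ∉ U →
        ∃ (a' s : H) (P : Subgroup H), Q a' ∧ a' ∉ U ∧ a' ∈ P ∧ P ≤ K ∧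
          IsPGroup p P ∧ s ∈ K ∧ s ≠ 1 ∧ (∃ k, orderOf s = 2 ^ k) ∧ s ∈ Subgroup.normalizer (P : Set H) := by
      intro c d hcd hc hd hcU
      obtain ⟨P, s, hcP, hP, hs1, ⟨k, hk⟩, hsP⟩ := exists_normalizing hp hW ((ρ.comp K.subtype).comp L.subtype)
        ((hρ.comp K.subtype_injective).comp L.subtype_injective) c d hcd hc hd hnp
      let f : L →* H := K.subtype.comp L.subtype
      have hf : Function.Injective f := K.subtype_injective.comp L.subtype_injective
      refine ⟨f c, f s, P.map f, hc, hcU, Subgroup.mem_map_of_mem f hcP, ?_, hP.map f, (s : K).2,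
        fun e => hs1 (hf (by rw [map_one]; exact e)), ⟨k, by rw [orderOf_injective f hf, hk]⟩,
        Subgroup.le_normalizer_map f (Subgroup.mem_map_of_mem f hsP)⟩
      rintro _ ⟨y, -, rfl⟩
      exact (y : K).2
    by_cases haU : ((a' : K) : H) ∈ U
    · by_cases hbU : ((b' : K) : H) ∈ U
      · exfalso
        refine hnp ((hU.comap_of_injective (K.subtype.comp L.subtype)
          (K.subtype_injective.comp L.subtype_injective)).to_le ?_ |>.of_equiv Subgroup.topEquiv)
        rw [← hgen, Subgroup.closure_le]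
        rintro y (rfl | rfl)
        · exact haU
        · exact hbU
      · exact key b' a' (by rw [Set.pair_comm]; exact hgen) hqb hqa hbU
    · exact key a' b' hgen hqa hqb haU
  have hS : S.Nonempty := by
    refine ⟨⊥, IsPGroup.of_bot, le_bot_iff.1 (gen_le Q ⊥), ?_⟩
    have hne : (⟨a, trivial⟩ : (⊤ : Subgroup H)) ∉ Cfsg.pCore p (⊤ : Subgroup H) := fun hc =>
      hna ((Cores.map_pCore Subgroup.topEquiv p).le (Subgroup.mem_map_of_mem _ hc))
    obtain ⟨a', s, P, -, -, -, -, -, -, hs1, hs2, -⟩ := hpair ⊤ a trivial ha hne ⊥ IsPGroup.of_bot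
    exact ⟨s, by rw [Subgroup.normalizer_eq_top ⊥]; trivial, hs1, hs2⟩
  obtain ⟨U, ⟨hUp, hUgen, s, hsU, hs1, k, hk⟩, hmax⟩ :=
    Set.exists_max_image S (fun U => Nat.card U) (Set.toFinite _) hS
  have hmax' : ∀ V : Subgroup H, IsPGroup p V → U ≤ V → ∀ x ∈ V, Q x → x ∉ U →
      ∀ s ∈ Subgroup.normalizer (V : Set H), s ≠ 1 → (∃ k, orderOf s = 2 ^ k) → False := by
    intro V hV hUV x hxV hQx hxU t ht ht1 ht2
    have h1 := hmax (gen Q V) ⟨hV.to_le (gen_le Q V), gen_gen Q V, t, normalizer_le_gen hQ V ht, ht1, ht2⟩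
    have h2 : U < gen Q V := by
      refine lt_of_le_of_ne (hUgen ▸ gen_mono Q hUV) fun e => hxU ?_
      rw [e]; exact mem_gen hQx hxV
    exact (Nat.lt_irrefl _) ((Set.Finite.card_lt_card (Set.toFinite _) h2).trans_le h1)
  obtain ⟨T, hT⟩ := hUp.exists_le_sylow
  by_cases hex : ∃ x ∈ (T : Subgroup H), Q x ∧ x ∉ U
  · obtain ⟨a₁, -, hQa, haU, haN⟩ := exists_mem_normalizer hQ T.2 hT hUgen hex
    set N := Subgroup.normalizer (U : Set H) with hN
    by_cases hcore : (⟨a₁, haN⟩ : N) ∈ Cfsg.pCore p N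
    · exact hmax' (Cfsg.pCoreOf p N) (isPGroup_pCoreOf N)
        (le_pCoreOf Subgroup.le_normalizer le_rfl hUp) a₁ (Subgroup.mem_map_of_mem N.subtype hcore) hQa haU s
        (normalizer_pCoreOf N hsU) hs1 ⟨k, hk⟩
    · obtain ⟨a', t, P, hQa', ha'U, ha'P, hPN, hP, htN, ht1, ht2, htP⟩ := hpair N a₁ haN hQa hcore U hUp
      exact hmax' (U ⊔ P) (hUp.to_sup_of_normal_left' hP hPN) le_sup_left a' (Subgroup.mem_sup_right ha'P)
        hQa' ha'U t (by
          rw [← map_conj_eq_iff, Subgroup.map_sup, map_conj_eq_iff.2 htN, map_conj_eq_iff.2 htP]) ht1 ht2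
  · push Not at hex
    have hTN : (T : Subgroup H) ≤ Subgroup.normalizer (U : Set H) := by
      have e : gen Q (T : Subgroup H) = U :=
        le_antisymm ((Subgroup.closure_le _).2 fun x hx => hex x hx.2 hx.1) (hUgen ▸ gen_mono Q hT)
      rw [← e]
      exact Subgroup.le_normalizer.trans (normalizer_le_gen hQ _)
    have hne : Subgroup.normalizer (U : Set H) ≠ ⊤ := by
      intro htop
      haveI : U.Normal := Subgroup.normalizer_eq_top_iff.1 htop
      have hap : IsPGroup p (Subgroup.zpowers a) := by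
        rcases (Nat.dvd_prime hpp).mp (orderOf_dvd_of_pow_eq_one (pow_eq_one_of_isQuad hW ρ hρ ha)) with hj | hj
        · exact IsPGroup.of_card (n := 0) (by rw [Nat.card_zpowers, hj, pow_zero])
        · exact IsPGroup.of_card (n := 1) (by rw [Nat.card_zpowers, hj, pow_one])
      obtain ⟨T', hT'⟩ := hap.exists_le_sylow
      obtain ⟨g, hg⟩ := MulAction.exists_smul_eq H T' T
      have h1 : g * a * g⁻¹ ∈ U := hex _ (by
        rw [← hg, Sylow.coe_subgroup_smul]
        exact ⟨a, hT' (Subgroup.mem_zpowers a), rfl⟩) (hQ g a ha)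
      exact hna (Cores.le_pCore hUp (by simpa [mul_assoc] using ‹U.Normal›.conj_mem _ h1 g⁻¹))
    have h1 : orderOf s ∣ Nat.card (Subgroup.normalizer (U : Set H)) := Subgroup.orderOf_dvd_natCard _ hsU
    have h2 := (hodd _ hne T hTN).of_dvd_nat h1
    rw [hk] at h2
    rcases Nat.eq_zero_or_pos k with rfl | hk0
    · exact hs1 (orderOf_eq_one_iff.1 (by rw [hk, pow_zero]))
    · exact Nat.not_even_iff_odd.2 h2 (Nat.even_pow.2 ⟨even_two, hk0.ne'⟩)

end CfsgLib.LocalEven.InversionControl
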