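import Cfsg.Agent.Lib.Fusion.QuadStable
import Cfsg.Agent.Lib.LocalEven.SylowIn

/-!
A quadratic pair which does not generate a `p`-group gives an element of 2-power order normalizing a
`p`-subgroup containing a member of the pair.
-/

set_option autoImplicit false
set_option linter.unusedSectionVars false

namespace CfsgLib.LocalEven.InversionControl

open Matrix CfsgLib.Perm.SL2Unipotent CfsgLib.Fusion.QuadSL2 CfsgLib.Fusion.QuadStable CfsgLib.LocalEven.SylowIn
open scoped MatrixGroups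

universe v w

theorem exists_two_part {G : Type*} [Group G] [Finite G] (g : G) :
    ∃ m k : ℕ, Odd m ∧ orderOf (g ^ m) = 2 ^ k ∧ (Even (orderOf g) → k ≠ 0) := by
  obtain ⟨k, m, hm, he⟩ := Nat.exists_eq_pow_mul_and_not_dvd (orderOf_pos g).ne' 2 (by norm_num)
  have hm' : Odd m := Nat.odd_iff.2 (Nat.two_dvd_ne_zero.1 hm)
  refine ⟨m, k, hm', ?_, ?_⟩
  · rw [orderOf_pow' g (Nat.pos_iff_ne_zero.1 hm'.pos), he, Nat.gcd_eq_right (Dvd.intro_left _ rfl),
      Nat.mul_div_cancel _ hm'.pos]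
  · rintro h rfl
    rw [he, pow_zero, one_mul] at h
    exact Nat.not_even_iff_odd.2 hm' h

theorem exists_normalizing {H : Type w} [Group H] [Finite H] {p : ℕ} [Fact p.Prime] (hp : p ≠ 2)
    {W : Type v} [AddCommGroup W] [Finite W] (hW : ∀ u : W, p • u = 0) (ρ : H →* (AddMonoid.End W)ˣ)
    (hρ : Function.Injective ρ) (a b : H) (hgen : Subgroup.closure ({a, b} : Set H) = ⊤)
    (ha : IsQuad ρ a) (hb : IsQuad ρ b) (hnp : ¬ IsPGroup p H) :
    ∃ (P : Subgroup H) (s : H), a ∈ P ∧ IsPGroup p P ∧ s ≠ 1 ∧ (∃ k, orderOf s = 2 ^ k) ∧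
      s ∈ Subgroup.normalizer (P : Set H) := by
  have hpp : p.Prime := Fact.out
  obtain ⟨c, hc, hc1⟩ := exists_coprime_ne_one hnp
  obtain ⟨K, _, _, _, k, φ, hk, hφa, hφb, -, -⟩ := exists_hom_sl2 hW ρ a b hgen ha hb hc
    (fun e => hc1 (hρ (e.trans (map_one ρ).symm)))
  haveI : Fact (Nat.Prime 2) := ⟨Nat.prime_two⟩
  have heven := even_card (p := p) (X := φ.range) hk ⟨a, hφa⟩ ⟨b, hφb⟩
  obtain ⟨g, hg⟩ := exists_prime_orderOf_dvd_card' 2 (even_iff_two_dvd.1 heven)
  obtain ⟨h, hh⟩ := g.2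
  have hg2 : orderOf (g : SL(2, K)) = 2 := by rw [Subgroup.orderOf_coe, hg]
  have hgn : (g : SL(2, K)) = negI := Subtype.ext ((val_eq_neg_one (p := p) hp (fun e => by
    rw [e, orderOf_one] at hg2; omega) (by rw [← pow_two]; exact orderOf_dvd_iff_pow_eq_one.1 (dvd_of_eq hg2))).trans negI_val.symm)
  set B := (Subgroup.zpowers (up k)).comap φ with hB
  have haB : a ∈ B := by rw [hB, Subgroup.mem_comap, hφa]; exact Subgroup.mem_zpowers _
  have hBn : B.map (MulAut.conj h).toMonoidHom = B := by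
    ext x
    rw [mem_map_conj, hB, Subgroup.mem_comap, Subgroup.mem_comap, map_mul, map_mul, map_inv, hh, hgn,
      mul_assoc, negI_comm, inv_mul_cancel_left]
  have hap : IsPGroup p (Subgroup.zpowers a) := by
    rcases (Nat.dvd_prime hpp).mp (orderOf_dvd_of_pow_eq_one (pow_eq_one_of_isQuad hW ρ hρ ha)) with hj | hj
    · exact IsPGroup.of_card (n := 0) (by rw [Nat.card_zpowers, hj, pow_zero])
    · exact IsPGroup.of_card (n := 1) (by rw [Nat.card_zpowers, hj, pow_one])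
  obtain ⟨P, hP, haP⟩ := exists_isSylowIn B (Subgroup.zpowers_le.2 haB) hap
  have hP' := hP.map_conj h
  rw [hBn] at hP'
  obtain ⟨e, he, hPe⟩ := hP.conjugate hP'
  have hs0 : e⁻¹ * h ∈ Subgroup.normalizer (P : Set H) := by
    rw [← map_conj_eq_iff, ← map_conj_conj, hPe, map_conj_conj, inv_mul_cancel, map_conj_one]
  set u := φ e⁻¹ with hu
  have hφ : φ (e⁻¹ * h) = u * negI := by rw [map_mul, hh, hgn]
  have hup : u ^ p = 1 := by
    obtain ⟨j, hj⟩ := Subgroup.mem_zpowers_iff.1 (Subgroup.mem_comap.1 (inv_mem he))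
    rw [hu, ← hj, ← zpow_natCast, zpow_comm, zpow_natCast, ← orderOf_up (p := p) hk, pow_orderOf_eq_one,
      _root_.one_zpow]
  have heven' : Even (orderOf (e⁻¹ * h)) := by
    obtain ⟨d, hd⟩ := hpp.odd_of_ne_two hp
    have hn2 : orderOf (negI : SL(2, K)) = 2 := hgn ▸ hg2
    have h1 : (φ (e⁻¹ * h)) ^ p = negI := by
      rw [hφ, (show Commute u negI from negI_comm u).mul_pow, hup, one_mul, hd, pow_succ, pow_mul,
        show (negI : SL(2, K)) ^ 2 = 1 from orderOf_dvd_iff_pow_eq_one.1 (dvd_of_eq hn2), one_pow, one_mul]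
    rw [even_iff_two_dvd, ← hn2, ← h1]
    exact (orderOf_pow_dvd p).trans (orderOf_map_dvd φ _)
  obtain ⟨m, j, -, hj, hj0⟩ := exists_two_part (e⁻¹ * h)
  refine ⟨P, (e⁻¹ * h) ^ m, haP (Subgroup.mem_zpowers a), hP.2.1, fun e1 => ?_, ⟨j, hj⟩, pow_mem hs0 m⟩
  rw [e1, orderOf_one] at hj
  exact hj0 heven' (by
    rcases Nat.eq_zero_or_pos j with h0 | h0
    · exact h0
    · have := Nat.one_lt_two_pow h0.ne'; omega)

end CfsgLib.LocalEven.InversionControl
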